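import Cfsg.Agent.AltBlocks.QuasiFStar
import Cfsg.Agent.Linear.Perfect

/-!
# The generalized Fitting subgroup of a group with socle `PSL`
-/

set_option autoImplicit false

namespace CfsgLib.ONanTI

open Subgroup

/-- `F*` of a group with a non-abelian simple normal subgroup with trivial centralizer. -/
theorem generalizedFitting_eq_of_simple {L : Type*} [Group L] [Finite L] (N : Subgroup L) [hN : N.Normal]
    (hs : IsSimpleGroup ↥N) (hna : ¬ IsMulCommutative ↥N) (hC : centralizer (N : Set L) = ⊥) :
    Cfsg.generalizedFittingSubgroup L = N := by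
  have hNc : Cfsg.IsComponent N := AltBlocks.isComponent_of_simple hN.isSubnormal hs hna
  refine le_antisymm (sup_le (sSup_le fun K hK => ?_) (sSup_le ?_))
    ((Components.IsComponent.le_layer hNc).trans le_sup_left)
  · by_contra hKN
    have hne : K ≠ N := fun he => hKN he.le
    have h1 := Components.IsComponent.commutator_eq_bot_of_ne hK hNc hne
    rw [commutator_eq_bot_iff_le_centralizer, hC, le_bot_iff] at h1
    exact Components.IsComponent.ne_bot hK h1
  · rintro M ⟨hM, hnil⟩
    haveI := hM
    rcases (inferInstance : (M.subgroupOf N).Normal).eq_bot_or_eq_top with h | h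
    · have hd : Disjoint M N := by
        rw [disjoint_iff, Subgroup.eq_bot_iff_forall]
        intro x hx
        have hmem : (⟨x, hx.2⟩ : ↥N) ∈ M.subgroupOf N := Subgroup.mem_subgroupOf.2 hx.1
        rw [h, Subgroup.mem_bot] at hmem
        exact congrArg Subtype.val hmem
      have hle : M ≤ centralizer (N : Set L) := fun m hm => mem_centralizer_iff.2 fun n hn =>
        (commute_of_normal_of_disjoint M N hM hN hd m n hm hn).eq.symm
      rw [hC] at hle
      exact hle.trans bot_le
    · exfalso
      have hle : N ≤ M := Subgroup.subgroupOf_eq_top.1 h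
      haveI := hnil
      haveI : Group.IsNilpotent ↥N :=
        Group.nilpotent_of_mulEquiv (Subgroup.subgroupOfEquivOfLe hle)
      exact hna ⟨⟨(IsSimpleGroup.comm_iff_isSolvable).2 inferInstance⟩⟩

/-- A group with a normal `PSL_n` (`n ≥ 3`) with trivial centralizer has it as `F*`. -/
theorem fstar_eq_psl {L : Type*} [Group L] [Finite L] (N : Subgroup L) [N.Normal] {F : Type}
    [Field F] [Fintype F] {n : ℕ} (hn : 3 ≤ n)
    (e : N ≃* Matrix.ProjectiveSpecialLinearGroup (Fin n) F)
    (hC : centralizer (N : Set L) = ⊥) : Cfsg.generalizedFittingSubgroup L = N := by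
  have hcard : 3 ≤ Fintype.card (Fin n) := by rw [Fintype.card_fin]; exact hn
  haveI := CfsgLib.Linear.isSimpleGroup_PSL (F := F) hcard
  have hs : IsSimpleGroup N := e.isSimpleGroup
  refine generalizedFitting_eq_of_simple N hs (fun hc => ?_) hC
  have h1 : commutator (Matrix.ProjectiveSpecialLinearGroup (Fin n) F) = ⊥ := by
    rw [commutator_def, commutator_eq_bot_iff_le_centralizer]
    intro a _
    rw [mem_centralizer_iff]
    intro b _
    simpa using congrArg e (hc.is_comm.comm (e.symm b) (e.symm a))
  rw [CfsgLib.Linear.commutator_PSL_eq_top hcard] at h1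
  exact top_ne_bot h1

end CfsgLib.ONanTI
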