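import Cfsg.Agent.ONanTI.Lines

/-!
# O'Nan's theorem: axes

An axis is the fixed set of a non-trivial element of some `K x` fixing a second point.  The
elements fixing a maximal axis `H` pointwise with centre on `H` form a group of translations,
which gives `|H| = 1 + q |H ∩ Fix n|`; hence every axis is maximal.
-/

set_option autoImplicit false
set_option linter.unusedSectionVars false

namespace CfsgLib.ONanTI

open MulAction Pointwise

/-- A subgroup covered by subgroups of order `q` meeting trivially. -/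
theorem card_of_partition {G ι : Type*} [Group G] [Finite G] (s : Finset ι) (P : ι → Subgroup G)
    (S : Subgroup G) (q : ℕ) (hS : ∀ g : G, g ≠ 1 → (g ∈ S ↔ ∃ i ∈ s, g ∈ P i))
    (hdis : ∀ i ∈ s, ∀ j ∈ s, i ≠ j → ∀ g, g ∈ P i → g ∈ P j → g = 1)
    (hcard : ∀ i ∈ s, Nat.card (P i) = q) : Nat.card S = 1 + s.card * (q - 1) := by
  classical
  cases nonempty_fintype G
  let F : Subgroup G → Finset G := fun H => (Finset.univ.filter fun g => g ∈ H).erase 1
  have hF : ∀ H : Subgroup G, (F H).card = Nat.card H - 1 := fun H => by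
    rw [Finset.card_erase_of_mem (by simp [one_mem]), Nat.card_eq_fintype_card, Fintype.card_subtype]
  have hu : F S = s.biUnion fun i => F (P i) := by
    ext g
    simp only [F, Finset.mem_biUnion, Finset.mem_erase, Finset.mem_filter, Finset.mem_univ, true_and]
    constructor
    · rintro ⟨hg, hgS⟩
      obtain ⟨i, hi, hgi⟩ := (hS g hg).1 hgS
      exact ⟨i, hi, hg, hgi⟩
    · rintro ⟨i, hi, hg, hgi⟩
      exact ⟨hg, (hS g hg).2 ⟨i, hi, hgi⟩⟩
  have hd : (s : Set ι).PairwiseDisjoint fun i => F (P i) := by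
    intro i hi j hj hij
    rw [Function.onFun, Finset.disjoint_left]
    intro g hg hg'
    simp only [F, Finset.mem_erase, Finset.mem_filter, Finset.mem_univ, true_and] at hg hg'
    exact hg.1 (hdis i hi j hj hij g hg.2 hg'.2)
  have h := hF S
  rw [hu, Finset.card_biUnion hd,
    Finset.sum_const_nat (m := q - 1) fun i hi => by rw [hF, hcard i hi]] at h
  have := Nat.card_pos (α := S)
  omega

variable {G X : Type*} [Group G] [Finite G] [MulAction G X] [FaithfulSMul G X] [Finite X] {p : ℕ}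
  (D : Fam G X p)

namespace Fam

/-- An axis. -/
def IsAxis (H : Set X) : Prop :=
  ∃ w v c, w ≠ v ∧ c ∈ D.A w v ∧ c ≠ 1 ∧ fixedBy X c = H

/-- A maximal axis. -/
def IsMax (H : Set X) : Prop := Maximal D.IsAxis H

/-- The elements with centre `x` fixing `H` pointwise. -/
def Q (x : X) (H : Set X) : Subgroup G := D.K x ⊓ fixingSubgroup G H

theorem mem_Q {x : X} {H : Set X} {c : G} :
    c ∈ D.Q x H ↔ c ∈ D.K x ∧ ∀ z ∈ H, c • z = z := by
  rw [Q, Subgroup.mem_inf, mem_fixingSubgroup_iff]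

theorem Q_mem_A {x y : X} {H : Set X} (hy : y ∈ H) {c : G} (hc : c ∈ D.Q x H) : c ∈ D.A x y :=
  D.mem_A.2 ⟨(D.mem_Q.1 hc).1, (D.mem_Q.1 hc).2 y hy⟩

variable {D}

theorem IsAxis.line_sub {H : Set X} (hH : D.IsAxis H) {u v z : X} (hu : u ∈ H) (hv : v ∈ H)
    (huv : u ≠ v) (hz : z ∈ D.line u v) : z ∈ H := by
  obtain ⟨w, v', c, -, hc, -, rfl⟩ := hH
  exact D.fix_line hc.1 huv hu hv hz

theorem IsAxis.exists_other {H : Set X} (hH : D.IsAxis H) (x : X) : ∃ y ∈ H, y ≠ x := by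
  obtain ⟨w, v, c, hwv, hc, -, rfl⟩ := hH
  by_cases hx : w = x
  · exact ⟨v, (D.mem_A.1 hc).2, fun h => hwv (hx.trans h.symm)⟩
  · exact ⟨w, D.A_fix_left hc, hx⟩

theorem IsAxis.exists_not_mem {H : Set X} (hH : D.IsAxis H) : ∃ z, z ∉ H := by
  obtain ⟨w, v, c, -, -, hc1, rfl⟩ := hH
  by_contra hcon
  push Not at hcon
  exact hc1 (eq_of_smul_eq_smul fun z : X => by rw [one_smul]; exact hcon z)

theorem IsAxis.smul {H : Set X} (hH : D.IsAxis H) (g : G) : D.IsAxis (g • H) := by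
  obtain ⟨w, v, c, hwv, hc, hc1, rfl⟩ := hH
  refine ⟨g • w, g • v, g * c * g⁻¹, fun h => hwv (MulAction.injective g h), D.conj_A g hc,
    fun h => hc1 (by simpa using h), ?_⟩
  rw [smul_fixedBy]

theorem IsAxis.exists_exact {H : Set X} (hH : D.IsAxis H) {x : X} (hx : x ∈ H) :
    ∃ c ∈ D.K x, c ≠ 1 ∧ fixedBy X c = H := by
  obtain ⟨w, v, b, -, hb, hb1, rfl⟩ := hH
  by_cases hxw : w = x
  · subst hxw; exact ⟨b, hb.1, hb1, rfl⟩
  have hbA : b ∈ D.A w x := D.mem_A.2 ⟨hb.1, hx⟩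
  obtain ⟨n, hn, hn'⟩ := D.exists_moving (Ne.symm hxw)
  refine ⟨f n b, (D.f_mem (Ne.symm hxw) hn hbA).1, fun h => hb1 ?_,
    D.fixedBy_f (Ne.symm hxw) hn hn' hbA⟩
  exact D.f_inj hn hn' hbA (one_mem _) (by rw [h]; simp [f])

theorem IsAxis.smul_mem {H : Set X} (hH : D.IsAxis H) {x z : X} {n : G} (hx : x ∈ H)
    (hn : n ∈ D.K x) (hz : z ∈ H) : n • z ∈ H := by
  by_cases hzx : x = z
  · subst hzx; rwa [D.le_stab _ n hn]
  · exact hH.line_sub hx hz hzx (D.K_mem_line hn)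

theorem IsMax.exact {H : Set X} (hH : D.IsMax H) {x : X} {c : G} (hc : c ∈ D.Q x H) (hc1 : c ≠ 1) :
    fixedBy X c = H := by
  obtain ⟨y, hy, hyx⟩ := hH.1.exists_other x
  have hax : D.IsAxis (fixedBy X c) := ⟨x, y, c, hyx.symm, D.Q_mem_A hy hc, hc1, rfl⟩
  have hsub : H ⊆ fixedBy X c := (D.mem_Q.1 hc).2
  exact (hH.2 hax hsub).antisymm hsub

theorem IsMax.smul {H : Set X} (hH : D.IsMax H) (g : G) : D.IsMax (g • H) := by
  refine ⟨hH.1.smul g, fun J hJ hle => ?_⟩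
  have h1 : H ⊆ g⁻¹ • J := Set.subset_smul_set_iff.2 (by simpa using hle)
  exact Set.subset_smul_set_iff.2 (hH.2 (hJ.smul g⁻¹) h1)

theorem IsMax.mem_Q_of_fix {H : Set X} (hH : D.IsMax H) {x : X} (hx : x ∈ H) :
    ∃ c ∈ D.Q x H, c ≠ 1 := by
  obtain ⟨c, hc, hc1, hfix⟩ := hH.1.exists_exact hx
  exact ⟨c, D.mem_Q.2 ⟨hc, fun z hz => by rw [← hfix] at hz; exact hz⟩, hc1⟩

variable (D)

/-- `n ↦ f n b` into the elements with centre `x` fixing `H`. -/
def fHom {x y : X} {H : Set X} (hxy : x ≠ y) (hx : x ∈ H) {b : G} (hb : b ∈ D.Q y H) :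
    D.K x →* D.Q x H where
  toFun n := ⟨f (n : G) b, D.mem_Q.2 ⟨(D.f_mem hxy n.2 (D.Q_mem_A hx hb)).1, fun _ hz =>
    D.fixedBy_sub_f n.2 (D.Q_mem_A hx hb) ((D.mem_Q.1 hb).2 _ hz)⟩⟩
  map_one' := Subtype.ext (by simp [f])
  map_mul' n m := Subtype.ext (by
    have hbx : b • x = x := (D.mem_A.1 (D.Q_mem_A hx hb)).2
    have h := D.comm x _ (inv_mem m.2) _
      (mul_mem (inv_mem n.2) (D.conj_K_fix hbx n.2))
    simp only [Subgroup.coe_mul, f]
    calc (↑n * ↑m : G)⁻¹ * (b * (↑n * ↑m) * b⁻¹)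
        = (m : G)⁻¹ * ((n : G)⁻¹ * (b * n * b⁻¹)) * (b * m * b⁻¹) := by group
      _ = (n : G)⁻¹ * (b * n * b⁻¹) * (m : G)⁻¹ * (b * m * b⁻¹) := by rw [h]
      _ = _ := by group)

theorem fHom_ker {x y : X} {H : Set X} (hxy : x ≠ y) (hx : x ∈ H) {b : G} (hb : b ∈ D.Q y H)
    (hb1 : b ≠ 1) : (D.fHom hxy hx hb).ker = (D.A x y).subgroupOf (D.K x) := by
  ext n
  rw [MonoidHom.mem_ker, Subgroup.mem_subgroupOf, Subtype.ext_iff]
  change f (n : G) b = 1 ↔ _
  rw [f, inv_mul_eq_one, eq_mul_inv_iff_mul_eq]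
  exact ⟨fun h => D.mem_A_of_commute (D.Q_mem_A hx hb) hb1 n.2 h,
    fun h => D.commute_A hxy h (D.Q_mem_A hx hb)⟩

theorem card_range_fHom {x y : X} {H : Set X} (hxy : x ≠ y) (hx : x ∈ H) {b : G}
    (hb : b ∈ D.Q y H) (hb1 : b ≠ 1) :
    Nat.card (D.fHom hxy hx hb).range * Nat.card (D.A x y) = Nat.card (D.K x) := by
  rw [Subgroup.card_eq_card_quotient_mul_card_subgroup (D.fHom hxy hx hb).ker,
    Nat.card_congr (QuotientGroup.quotientKerEquivRange _).toEquiv, D.fHom_ker hxy hx hb hb1,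
    Nat.card_congr (Subgroup.subgroupOfEquivOfLe (show D.A x y ≤ D.K x from inf_le_left)).toEquiv]

variable {D}

theorem IsMax.card_Q {H : Set X} (hH : D.IsMax H) {x y : X} (hx : x ∈ H) (hxy : x ≠ y) :
    Nat.card (D.Q x H) * Nat.card (D.A x y) = Nat.card (D.K x) := by
  refine le_antisymm ?_ ?_
  · obtain ⟨z, hz⟩ := hH.1.exists_not_mem
    have hxz : x ≠ z := fun h => hz (h ▸ hx)
    rw [D.card_A_eq hxy hxz, ← Nat.card_prod]
    refine Nat.card_le_card_of_injective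
      (fun u : D.Q x H × D.A x z => (⟨u.1 * u.2, mul_mem u.1.2.1 u.2.2.1⟩ : D.K x)) ?_
    rintro ⟨a, b⟩ ⟨a', b'⟩ he
    have he' : (a : G) * b = a' * b' := congrArg Subtype.val he
    have h1 : ((a' : G)⁻¹ * a) = b' * (b : G)⁻¹ := by
      rw [eq_mul_inv_iff_mul_eq, mul_assoc, he', inv_mul_cancel_left]
    have h2 : (a' : G)⁻¹ * a = 1 := by
      by_contra hne
      have hm : (a' : G)⁻¹ * a ∈ D.A x z := h1 ▸ mul_mem b'.2 (inv_mem b.2)
      have hz' : z ∈ fixedBy X ((a' : G)⁻¹ * a) := (D.mem_A.1 hm).2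
      rw [hH.exact (mul_mem (inv_mem a'.2) a.2) hne] at hz'
      exact hz hz'
    rw [inv_mul_eq_one] at h2
    rw [← h2, mul_right_inj] at he'
    exact Prod.ext (Subtype.ext h2.symm) (Subtype.ext he')
  · obtain ⟨y', hy', hyx⟩ := hH.1.exists_other x
    obtain ⟨b, hb, hb1⟩ := hH.mem_Q_of_fix hy'
    rw [D.card_A_eq hxy hyx.symm, ← D.card_range_fHom hyx.symm hx hb hb1]
    exact Nat.mul_le_mul_right _ (Nat.card_le_card_of_injective _ Subtype.coe_injective)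

theorem card_K_eq (D : Fam G X p) (x x' : X) : Nat.card (D.K x) = Nat.card (D.K x') := by
  have key : ∀ u v : X, Nat.card (D.K u) ≤ Nat.card (D.K v) := by
    intro u v
    by_cases huv : u = v
    · rw [huv]
    obtain ⟨g, rfl, -⟩ := D.two huv (Ne.symm huv)
    exact Nat.card_le_card_of_injective
      (fun c : D.K u => (⟨g * c.1 * g⁻¹, D.conj g u c c.2⟩ : D.K (g • u)))
      (fun a b h => Subtype.ext (by simpa using congrArg Subtype.val h))
  exact le_antisymm (key _ _) (key _ _)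

theorem IsMax.card_Q_eq {H H' : Set X} (hH : D.IsMax H) (hH' : D.IsMax H') {x x' : X} (hx : x ∈ H)
    (hx' : x' ∈ H') : Nat.card (D.Q x H) = Nat.card (D.Q x' H') := by
  obtain ⟨y, -, hy⟩ := hH.1.exists_other x
  obtain ⟨y', -, hy'⟩ := hH'.1.exists_other x'
  have h1 := hH.card_Q hx hy.symm
  have h2 := hH'.card_Q hx' hy'.symm
  rw [D.card_K_eq x x', ← h2, D.card_A_eq hy.symm hy'.symm] at h1
  exact Nat.eq_of_mul_eq_mul_right Nat.card_pos h1

theorem IsMax.exists_f_eq {H : Set X} (hH : D.IsMax H) {x y : X} (hx : x ∈ H) (hxy : x ≠ y)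
    {b c : G} (hb : b ∈ D.Q y H) (hb1 : b ≠ 1) (hc : c ∈ D.Q x H) :
    ∃ n ∈ D.K x, f n b = c := by
  have h1 := D.card_range_fHom hxy hx hb hb1
  rw [← hH.card_Q hx hxy] at h1
  have htop : (D.fHom hxy hx hb).range = ⊤ :=
    Subgroup.eq_top_of_card_eq _ (Nat.eq_of_mul_eq_mul_right Nat.card_pos h1)
  obtain ⟨n, hn⟩ : (⟨c, hc⟩ : D.Q x H) ∈ (D.fHom hxy hx hb).range := htop ▸ Subgroup.mem_top _
  exact ⟨n, n.2, congrArg Subtype.val hn⟩

/-- The translations with axis `H`. -/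
def T {H : Set X} (hH : D.IsMax H) : Subgroup G where
  carrier := {g | g = 1 ∨ ∃ x ∈ H, g ∈ D.Q x H}
  one_mem' := Or.inl rfl
  inv_mem' := by
    rintro g (rfl | ⟨x, hx, hg⟩)
    · exact Or.inl inv_one
    · exact Or.inr ⟨x, hx, inv_mem hg⟩
  mul_mem' := by
    rintro a b ha hb
    by_cases ha1 : a = 1
    · subst ha1; rwa [one_mul]
    by_cases hb1 : b = 1
    · subst hb1; rwa [mul_one]
    obtain ⟨x, hx, ha⟩ := ha.resolve_left ha1
    obtain ⟨y, hy, hb⟩ := hb.resolve_left hb1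
    by_cases hxy : x = y
    · subst hxy; exact Or.inr ⟨x, hx, mul_mem ha hb⟩
    obtain ⟨n, hn, hfn⟩ := hH.exists_f_eq hx hxy hb hb1 ha
    refine Or.inr ⟨n⁻¹ • y, hH.1.smul_mem hx (inv_mem hn) hy, D.mem_Q.2 ⟨?_, fun z hz => ?_⟩⟩
    · have := D.conj n⁻¹ y b (D.mem_Q.1 hb).1
      rw [← hfn, f]
      simpa [mul_assoc] using this
    · rw [mul_smul, (D.mem_Q.1 hb).2 z hz, (D.mem_Q.1 ha).2 z hz]

theorem mem_T {H : Set X} {hH : D.IsMax H} {g : G} :
    g ∈ T hH ↔ g = 1 ∨ ∃ x ∈ H, g ∈ D.Q x H := Iff.rfl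

theorem card_T {H : Set X} (hH : D.IsMax H) {x : X} (hx : x ∈ H) :
    Nat.card (T hH) = 1 + H.ncard * (Nat.card (D.Q x H) - 1) := by
  classical
  cases nonempty_fintype X
  rw [Set.ncard_eq_toFinset_card']
  refine card_of_partition _ (fun z => D.Q z H) _ _ (fun g hg => ?_) (fun i hi j hj hij g h1 h2 => ?_)
    fun i hi => hH.card_Q_eq hH (Set.mem_toFinset.1 hi) hx
  · rw [mem_T]
    simp [hg]
  · exact D.inter hij g (D.mem_Q.1 h1).1 (D.mem_Q.1 h2).1

/-- Commutation with an element with centre on `H`. -/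
def phi {H : Set X} (hH : D.IsMax H) {x : X} (hx : x ∈ H) {n : G} (hn : n ∈ D.K x) :
    T hH →* D.Q x H :=
  have hmem : ∀ t ∈ T hH, f n t ∈ D.Q x H := by
    rintro t (rfl | ⟨d, hd, ht⟩)
    · simp [f]
    by_cases hdx : d = x
    · subst hdx
      have : f n t = 1 := by
        rw [f, D.comm d t (D.mem_Q.1 ht).1 n hn]
        simp
      rw [this]
      exact one_mem _
    · exact D.mem_Q.2 ⟨(D.f_mem (Ne.symm hdx) hn (D.Q_mem_A hx ht)).1, fun z hz =>
        D.fixedBy_sub_f hn (D.Q_mem_A hx ht) ((D.mem_Q.1 ht).2 z hz)⟩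
  { toFun := fun t => ⟨f n (t : G), hmem t t.2⟩
    map_one' := Subtype.ext (by simp [f])
    map_mul' := fun t s => Subtype.ext (by
      have hc := hmem s s.2
      have hcomm : (t : G) * f n (s : G) = f n (s : G) * t := by
        rcases t.2 with h1 | ⟨d, hd, ht⟩
        · rw [h1, one_mul, mul_one]
        by_cases hdx : d = x
        · subst hdx; exact D.comm d _ (D.mem_Q.1 ht).1 _ (D.mem_Q.1 hc).1
        · exact D.commute_A hdx (D.Q_mem_A hx ht) (D.Q_mem_A hd hc)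
      simp only [Subgroup.coe_mul]
      calc f n ((t : G) * s) = f n (t : G) * ((t : G) * f n (s : G)) * (t : G)⁻¹ := by
            simp only [f]; group
        _ = f n (t : G) * (f n (s : G) * t) * (t : G)⁻¹ := by rw [hcomm]
        _ = _ := by group) }

theorem IsMax.ncard_eq {H : Set X} (hH : D.IsMax H) {x : X} (hx : x ∈ H) {n : G} (hn : n ∈ D.K x)
    (hn' : n ∉ D.Q x H) :
    H.ncard = 1 + Nat.card (D.Q x H) * (H ∩ fixedBy X n).ncard := by
  classical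
  cases nonempty_fintype X
  set q := Nat.card (D.Q x H) with hq
  set φ := phi hH hx hn
  have hsurj : Function.Surjective φ := by
    intro c
    obtain ⟨d, hd, hnd⟩ : ∃ d ∈ H, n • d ≠ d := by
      by_contra hcon
      push Not at hcon
      exact hn' (D.mem_Q.2 ⟨hn, hcon⟩)
    have hxd : x ≠ d := fun h => hnd (h ▸ D.le_stab x n hn)
    have hnA : n ∉ D.A x d := fun h => hnd (D.mem_A.1 h).2
    obtain ⟨t, ht⟩ := (D.f_bijective hxd hn hnA).2 ⟨c, D.Q_mem_A hd c.2⟩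
    have hft : f n t.1 = (c : G) := congrArg Subtype.val ht
    have htQ : (t : G) ∈ D.Q d H := D.mem_Q.2 ⟨t.2.1, fun z hz => by
      have hz' : z ∈ fixedBy X (f n t.1) := hft ▸ (D.mem_Q.1 c.2).2 z hz
      rwa [D.fixedBy_f hxd hn hnA t.2] at hz'⟩
    exact ⟨⟨t, Or.inr ⟨d, hd, htQ⟩⟩, Subtype.ext hft⟩
  have hcardT := φ.ker.card_eq_card_quotient_mul_card_subgroup
  rw [Nat.card_congr (QuotientGroup.quotientKerEquivOfSurjective φ hsurj).toEquiv, card_T hH hx,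
    ← hq] at hcardT
  have hker : Nat.card φ.ker = 1 + (H ∩ fixedBy X n).ncard * (q - 1) := by
    rw [← Subgroup.card_map_of_injective (T hH).subtype_injective, Set.ncard_eq_toFinset_card']
    refine card_of_partition _ (fun z => D.Q z H) _ _ (fun g hg => ?_)
      (fun i hi j hj hij g h1 h2 => D.inter hij g (D.mem_Q.1 h1).1 (D.mem_Q.1 h2).1)
      fun i hi => hH.card_Q_eq hH (Set.mem_toFinset.1 hi).1 hx
    simp only [Subgroup.mem_map, MonoidHom.mem_ker, Set.mem_toFinset, Set.mem_inter_iff, mem_fixedBy]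
    constructor
    · rintro ⟨⟨t, ht⟩, htk, rfl⟩
      obtain ⟨d, hd, htQ⟩ := ht.resolve_left hg
      refine ⟨d, ⟨hd, ?_⟩, htQ⟩
      by_cases hdx : x = d
      · subst hdx; exact D.le_stab _ n hn
      have h1 : f n t = 1 := congrArg Subtype.val htk
      rw [f, inv_mul_eq_one, eq_mul_inv_iff_mul_eq] at h1
      exact (D.mem_A.1 (D.mem_A_of_commute (D.Q_mem_A hx htQ) hg hn h1)).2
    · rintro ⟨d, ⟨hd, hnd⟩, htQ⟩
      refine ⟨⟨g, Or.inr ⟨d, hd, htQ⟩⟩, Subtype.ext ?_, rfl⟩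
      change f n g = 1
      rw [f, inv_mul_eq_one, eq_mul_inv_iff_mul_eq]
      by_cases hdx : x = d
      · subst hdx; exact D.comm x n hn g (D.mem_Q.1 htQ).1
      · exact D.commute_A hdx (D.mem_A.2 ⟨hn, hnd⟩) (D.Q_mem_A hx htQ)
  rw [hker] at hcardT
  have hq2 : 2 ≤ q := by
    obtain ⟨c, hc, hc1⟩ := hH.mem_Q_of_fix hx
    have : 1 < Nat.card (D.Q x H) :=
      Finite.one_lt_card_iff_nontrivial.2 ⟨⟨c, hc⟩, 1, fun h => hc1 (congrArg Subtype.val h)⟩
    omega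
  obtain ⟨q', hq'⟩ := Nat.exists_eq_add_of_le hq2
  rw [show q - 1 = q' + 1 by omega, hq'] at hcardT
  rw [hq']
  have : (H.ncard : ℕ) * (q' + 1) = (1 + (2 + q') * (H ∩ fixedBy X n).ncard) * (q' + 1) := by
    nlinarith [hcardT]
  exact Nat.eq_of_mul_eq_mul_right (Nat.succ_pos q') this

theorem IsAxis.isMax {H : Set X} (hH : D.IsAxis H) : D.IsMax H := by
  obtain ⟨H', hle, hH''⟩ := Finite.exists_le_maximal hH
  have hH' : D.IsMax H' := hH''
  by_contra hnot
  have hne : H ≠ H' := fun h => hnot (h ▸ hH')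
  obtain ⟨w, v, c, hwv, hc, hc1, hfix⟩ := hH
  have hax : D.IsAxis H := ⟨w, v, c, hwv, hc, hc1, hfix⟩
  have hwH : w ∈ H := hfix ▸ D.A_fix_left hc
  have hvH : v ∈ H := hfix ▸ (D.mem_A.1 hc).2
  have hcont : ∀ J : Set X, D.IsMax J → w ∈ J → H ⊆ J := by
    intro J hJ hwJ
    by_cases hJH : J = H'
    · exact hJH ▸ hle
    have hnotsub : ∀ L L' : Set X, D.IsMax L → D.IsAxis L' → L ⊆ L' → L' ≠ L → False :=
      fun L L' hL hL' hs hne => hne ((hL.2 hL' hs).antisymm hs)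
    -- `c` against `H'` and `J`, and exact elements of the two against each other
    have hc' : c ∉ D.Q w H' := fun h => hne (hfix.symm.trans (hH'.exact h hc1))
    have hc'' : c ∉ D.Q w J := fun h => hnot ((hfix.symm.trans (hJ.exact h hc1)) ▸ hJ)
    obtain ⟨d, hd, hd1⟩ := hH'.mem_Q_of_fix (hle hwH)
    obtain ⟨e, he, he1⟩ := hJ.mem_Q_of_fix hwJ
    have hdJ : d ∉ D.Q w J := fun h => hJH ((hJ.exact h hd1).symm.trans (hH'.exact hd hd1))
    have heH : e ∉ D.Q w H' := fun h => hJH ((hJ.exact he he1).symm.trans (hH'.exact h he1))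
    have e1 := hH'.ncard_eq (hle hwH) hc.1 hc'
    have e2 := hJ.ncard_eq hwJ hc.1 hc''
    have e3 := hH'.ncard_eq (hle hwH) (D.mem_Q.1 he).1 heH
    have e4 := hJ.ncard_eq hwJ (D.mem_Q.1 hd).1 hdJ
    rw [hfix, Set.inter_eq_right.2 hle] at e1
    rw [hfix] at e2
    rw [hJ.exact he he1] at e3
    rw [hH'.exact hd hd1, Set.inter_comm] at e4
    rw [hH'.card_Q_eq hJ (hle hwH) hwJ] at e1 e3
    have hq : 0 < Nat.card (D.Q w J) := Nat.card_pos
    have h5 : H.ncard = (J ∩ H).ncard := by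
      have : Nat.card (D.Q w J) * H.ncard = Nat.card (D.Q w J) * (J ∩ H).ncard := by omega
      exact Nat.eq_of_mul_eq_mul_left hq this
    have h6 := Set.eq_of_subset_of_ncard_le (Set.inter_subset_right : J ∩ H ⊆ H) h5.le
      (Set.toFinite _)
    exact Set.inter_eq_right.1 h6
  obtain ⟨z, hz⟩ := hH'.1.exists_not_mem
  have hwz : w ≠ z := fun h => hz (h ▸ hle hwH)
  obtain ⟨g, hgw, hgv⟩ := D.two hwv hwz
  have hw' : w ∈ g⁻¹ • H' := by
    rw [Set.mem_smul_set_iff_inv_smul_mem, inv_inv, hgw]; exact hle hwH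
  have := hcont _ (hH'.smul g⁻¹) hw' hvH
  rw [Set.mem_smul_set_iff_inv_smul_mem, inv_inv, hgv] at this
  exact hz this

end Fam

end CfsgLib.ONanTI
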