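import Cfsg.Agent.ONanTI.Axes
import Cfsg.Agent.SymDesignPG.FromAction

/-!
# O'Nan's theorem: the axes form a symmetric design

Double counting gives that the number of axes through a point is the number of points on an axis,
so the stabilizer of an axis has index the degree and the recognition theorem for such groups
gives `PSL`.
-/

set_option autoImplicit false
set_option linter.unusedSectionVars false

namespace CfsgLib.ONanTI

open MulAction Pointwise

theorem card_le_of_partition {G ι : Type*} [Group G] [Finite G] (s : Finset ι) (P : ι → Subgroup G)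
    (S : Subgroup G) (q : ℕ) (n : G) (hn : n ∈ S) (hn1 : n ≠ 1) (hsub : ∀ i ∈ s, P i ≤ S)
    (hnot : ∀ i ∈ s, n ∉ P i)
    (hdis : ∀ i ∈ s, ∀ j ∈ s, i ≠ j → ∀ g, g ∈ P i → g ∈ P j → g = 1)
    (hcard : ∀ i ∈ s, Nat.card (P i) = q) : 2 + s.card * (q - 1) ≤ Nat.card S := by
  classical
  cases nonempty_fintype G
  let F : Subgroup G → Finset G := fun H => (Finset.univ.filter fun g => g ∈ H).erase 1
  have hF : ∀ H : Subgroup G, (F H).card = Nat.card H - 1 := fun H => by
    rw [Finset.card_erase_of_mem (by simp [one_mem]), Nat.card_eq_fintype_card, Fintype.card_subtype]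
  have hd : (s : Set ι).PairwiseDisjoint fun i => F (P i) := by
    intro i hi j hj hij
    rw [Function.onFun, Finset.disjoint_left]
    intro g hg hg'
    simp only [F, Finset.mem_erase, Finset.mem_filter, Finset.mem_univ, true_and] at hg hg'
    exact hg.1 (hdis i hi j hj hij g hg.2 hg'.2)
  have hu : s.biUnion (fun i => F (P i)) ⊆ (F S).erase n := by
    intro g hg
    simp only [F, Finset.mem_biUnion, Finset.mem_erase, Finset.mem_filter, Finset.mem_univ,
      true_and] at hg ⊢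
    obtain ⟨i, hi, hg1, hgi⟩ := hg
    exact ⟨fun h => hnot i hi (h ▸ hgi), hg1, hsub i hi hgi⟩
  have h := Finset.card_le_card hu
  rw [Finset.card_biUnion hd,
    Finset.sum_const_nat (m := q - 1) fun i hi => by rw [hF, hcard i hi],
    Finset.card_erase_of_mem (by simp [F, hn, hn1]), hF S] at h
  have : 1 < Nat.card S := Finite.one_lt_card_iff_nontrivial.2
    ⟨⟨n, hn⟩, 1, fun e => hn1 (congrArg Subtype.val e)⟩
  omega

variable {G X : Type*} [Group G] [Finite G] [MulAction G X] [FaithfulSMul G X] [Finite X] {p : ℕ}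
  {D : Fam G X p}

namespace Fam

theorem exists_axis_through {x y : X} (hxy : x ≠ y) : ∃ H, D.IsMax H ∧ x ∈ H ∧ y ∈ H := by
  obtain ⟨c, hc, hc1⟩ := D.exists_A_ne_one hxy
  exact ⟨fixedBy X c, (show D.IsAxis (fixedBy X c) from ⟨x, y, c, hxy, hc, hc1, rfl⟩).isMax,
    D.A_fix_left hc, (D.mem_A.1 hc).2⟩

theorem two_le_card_Q {H : Set X} (hH : D.IsMax H) {x : X} (hx : x ∈ H) :
    2 ≤ Nat.card (D.Q x H) := by
  obtain ⟨c, hc, hc1⟩ := hH.mem_Q_of_fix hx
  have : 1 < Nat.card (D.Q x H) :=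
    Finite.one_lt_card_iff_nontrivial.2 ⟨⟨c, hc⟩, 1, fun h => hc1 (congrArg Subtype.val h)⟩
  omega

theorem ncard_eq_inter {H J : Set X} (hH : D.IsMax H) (hJ : D.IsMax J) (hne : H ≠ J) {x : X}
    (hx : x ∈ H) (hx' : x ∈ J) : H.ncard = 1 + Nat.card (D.Q x H) * (H ∩ J).ncard := by
  obtain ⟨c, hc, hc1⟩ := hJ.mem_Q_of_fix hx'
  have h := hH.ncard_eq hx (D.mem_Q.1 hc).1
    (fun h => hne ((hH.exact h hc1).symm.trans (hJ.exact hc hc1)))
  rwa [hJ.exact hc hc1] at h

theorem ncard_eq_of_meet {H J : Set X} (hH : D.IsMax H) (hJ : D.IsMax J) {x : X} (hx : x ∈ H)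
    (hx' : x ∈ J) : H.ncard = J.ncard := by
  by_cases hne : H = J
  · rw [hne]
  rw [ncard_eq_inter hH hJ hne hx hx', ncard_eq_inter hJ hH (Ne.symm hne) hx' hx, Set.inter_comm,
    hH.card_Q_eq hJ hx hx']

theorem ncard_const {H J : Set X} (hH : D.IsMax H) (hJ : D.IsMax J) : H.ncard = J.ncard := by
  obtain ⟨w, v, c, -, hc, -, hfix⟩ := hH.1
  obtain ⟨w', v', c', -, hc', -, hfix'⟩ := hJ.1
  have hw : w ∈ H := hfix ▸ D.A_fix_left hc
  have hw' : w' ∈ J := hfix' ▸ D.A_fix_left hc'
  by_cases h : w = w'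
  · exact ncard_eq_of_meet hH hJ hw (h ▸ hw')
  obtain ⟨L, hL, hwL, hwL'⟩ := exists_axis_through (D := D) h
  exact (ncard_eq_of_meet hH hL hw hwL).trans (ncard_eq_of_meet hL hJ hwL' hw')

theorem exists_two_axes {H : Set X} (hH : D.IsMax H) {x : X} (hx : x ∈ H) :
    ∃ J, D.IsMax J ∧ x ∈ J ∧ H ≠ J := by
  obtain ⟨z, hz⟩ := hH.1.exists_not_mem
  obtain ⟨J, hJ, hxJ, hzJ⟩ := exists_axis_through (D := D) (show x ≠ z from fun h => hz (h ▸ hx))
  exact ⟨J, hJ, hxJ, fun h => hz (h ▸ hzJ)⟩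

/-- No element of `K x` fixes only `x`. -/
theorem exists_fix_other {x : X} {n : G} (hn : n ∈ D.K x) (hn1 : n ≠ 1) :
    ∃ y, y ≠ x ∧ n • y = y := by
  classical
  cases nonempty_fintype X
  by_contra hcon
  push Not at hcon
  have hfix : fixedBy X n = {x} := Set.ext fun y =>
    ⟨fun hy => by_contra fun hne => hcon y hne hy, fun hy => by
      rw [Set.mem_singleton_iff] at hy; subst hy; exact D.le_stab _ n hn⟩
  -- an axis `H` through `x`, and all axes have `q + 1` points
  obtain ⟨u, v, c, huv, hcK, hc1, hcv⟩ := D.nsr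
  obtain ⟨H, hH, hxH⟩ : ∃ H, D.IsMax H ∧ x ∈ H := by
    by_cases hxu : x = u
    · subst hxu
      obtain ⟨H, hH, hx, -⟩ := exists_axis_through (D := D) huv
      exact ⟨H, hH, hx⟩
    · obtain ⟨H, hH, hx, -⟩ := exists_axis_through (D := D) hxu
      exact ⟨H, hH, hx⟩
  set q := Nat.card (D.Q x H) with hq
  have hk : H.ncard = 1 + q := by
    have hnot : n ∉ D.Q x H := by
      intro h
      have := hH.exact h hn1
      obtain ⟨y, hy, hyx⟩ := hH.1.exists_other x
      rw [← this, hfix] at hy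
      exact hyx hy
    have h := hH.ncard_eq hxH hn hnot
    rw [hfix, Set.inter_singleton_of_mem hxH] at h
    simpa [hq] using h
  have hq2 := two_le_card_Q hH hxH
  have huniq : ∀ L L' : Set X, D.IsMax L → D.IsMax L' → ∀ a b : X, a ≠ b → a ∈ L → a ∈ L' →
      b ∈ L → b ∈ L' → L = L' := by
    intro L L' hL hL' a b hab haL haL' hbL hbL'
    by_contra hne
    have h := ncard_eq_inter hL hL' hne haL haL'
    rw [ncard_const hL hH, hk, hL.card_Q_eq hH haL hxH, ← hq] at h
    have h2 : q * 1 = q * (L ∩ L').ncard := by omega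
    have h3 := Nat.eq_of_mul_eq_mul_left (by omega) h2
    obtain ⟨e, he⟩ := Set.ncard_eq_one.1 h3.symm
    exact hab ((he ▸ (⟨haL, haL'⟩ : a ∈ L ∩ L') : a ∈ ({e} : Set X)).trans
      (he ▸ (⟨hbL, hbL'⟩ : b ∈ L ∩ L') : b ∈ ({e} : Set X)).symm)
  -- a point off `H`, joined to the `q + 1` points of `H` by distinct axes
  obtain ⟨z, hz⟩ := hH.1.exists_not_mem
  have hxz : x ≠ z := fun h => hz (h ▸ hxH)
  obtain ⟨g, rfl, -⟩ := D.two hxz (Ne.symm hxz)
  choose J hJ hJz hJy using fun y : H.toFinset => exists_axis_through (D := D)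
    (show g • x ≠ (y : X) from fun h => hz (h ▸ Set.mem_toFinset.1 y.2))
  have hJinj : Function.Injective J := by
    intro y y' he
    by_contra hne
    have hne' : (y : X) ≠ y' := fun h => hne (Subtype.ext h)
    have := huniq (J y) H (hJ y) hH _ _ hne' (hJy y) (Set.mem_toFinset.1 y.2) (he ▸ hJy y')
      (Set.mem_toFinset.1 y'.2)
    exact hz (this ▸ hJz y)
  have hn' : g * n * g⁻¹ ∈ D.K (g • x) := D.conj g x n hn
  have hle := card_le_of_partition (Finset.univ : Finset H.toFinset)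
    (fun y => D.Q (g • x) (J y)) (D.K (g • x)) q (g * n * g⁻¹) hn' (fun h => hn1 (by simpa using h))
    (fun y _ => inf_le_left)
    (fun y _ hmem => by
      have h := (hJ y).exact hmem (fun h => hn1 (by simpa using h))
      rw [← smul_fixedBy, hfix, Set.smul_set_singleton] at h
      have hy := hJy y
      rw [← h, Set.mem_singleton_iff] at hy
      exact hz (hy ▸ Set.mem_toFinset.1 y.2))
    (fun i _ j _ hij g' h1 h2 => by_contra fun hne =>
      hij (hJinj (((hJ i).exact h1 hne).symm.trans ((hJ j).exact h2 hne))))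
    (fun y _ => (hJ y).card_Q_eq hH (hJz y) hxH)
  rw [Finset.card_univ, Fintype.card_coe, ← Set.ncard_eq_toFinset_card', hk, D.card_K_eq _ x] at hle
  -- the order of `K x`
  obtain ⟨y, hy, hyx⟩ := hH.1.exists_other x
  have hA : D.A x y = D.Q x H := by
    refine le_antisymm (fun c hc => ?_) fun c hc => D.Q_mem_A hy hc
    by_cases hc1 : c = 1
    · rw [hc1]; exact one_mem _
    have hax : D.IsMax (fixedBy X c) :=
      (show D.IsAxis (fixedBy X c) from ⟨x, y, c, hyx.symm, hc, hc1, rfl⟩).isMax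
    have := huniq _ H hax hH x y hyx.symm (D.A_fix_left hc) hxH (D.mem_A.1 hc).2 hy
    refine D.mem_Q.2 ⟨hc.1, fun w hw => ?_⟩
    rw [← this] at hw
    exact hw
  rw [← hH.card_Q hxH hyx.symm, hA, ← hq] at hle
  have hq2' : 2 ≤ q := hq2
  obtain ⟨q', hq'⟩ := Nat.exists_eq_add_of_le hq2'
  rw [hq', show 2 + q' - 1 = q' + 1 by omega] at hle
  nlinarith

open scoped Classical in
/-- The axes satisfying `P` through `x`. -/
noncomputable def through [Fintype X] (P : Set X → Prop) (x : X) : Finset (Set X) :=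
  Finset.univ.filter fun J => P J ∧ x ∈ J

open scoped Classical in
/-- The axes satisfying `P` through `x` and `y`. -/
noncomputable def through₂ [Fintype X] (P : Set X → Prop) (x y : X) : Finset (Set X) :=
  Finset.univ.filter fun J => P J ∧ x ∈ J ∧ y ∈ J

theorem mem_through [Fintype X] {P : Set X → Prop} {x : X} {J : Set X} :
    J ∈ through P x ↔ P J ∧ x ∈ J := by simp [through]

theorem mem_through₂ [Fintype X] {P : Set X → Prop} {x y : X} {J : Set X} :
    J ∈ through₂ P x y ↔ P J ∧ x ∈ J ∧ y ∈ J := by simp [through₂]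

/-- The two double counts at a point. -/
theorem counts [Fintype X] (P : Set X → Prop) (x : X) (k lam : ℕ)
    (hk : ∀ J, P J → J.ncard = k) (hlam : ∀ y, y ≠ x → (through₂ P x y).card = lam) :
    (through P x).card * (k - 1) = lam * (Nat.card X - 1) ∧
    ∀ H, P H → x ∈ H → ∀ c, (∀ J, P J → x ∈ J → J ≠ H → (H ∩ J).ncard = c) →
      ((through P x).card - 1) * (c - 1) = (k - 1) * (lam - 1) := by
  classical
  refine ⟨?_, fun H hH hxH c hc => ?_⟩
  · have h := Finset.sum_card_bipartiteAbove_eq_sum_card_bipartiteBelow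
      (r := fun (J : Set X) (y : X) => y ∈ J) (s := through P x) (t := Finset.univ.erase x)
    rw [Finset.sum_const_nat (m := k - 1) fun J hJ => ?_,
      Finset.sum_const_nat (m := lam) fun y hy => ?_, Finset.card_erase_of_mem (Finset.mem_univ x),
      Finset.card_univ, ← Nat.card_eq_fintype_card] at h
    · rw [h, mul_comm]
    · rw [← hlam y (Finset.ne_of_mem_erase hy)]
      congr 1
      ext J
      simp [Finset.bipartiteBelow, mem_through, mem_through₂, and_assoc]
    · obtain ⟨hPJ, hxJ⟩ := mem_through.1 hJ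
      rw [← hk J hPJ, Set.ncard_eq_toFinset_card',
        ← Finset.card_erase_of_mem (Set.mem_toFinset.2 hxJ)]
      congr 1
      ext y
      simp [Finset.bipartiteAbove, and_comm]
  · have h := Finset.sum_card_bipartiteAbove_eq_sum_card_bipartiteBelow
      (r := fun (J : Set X) (y : X) => y ∈ J) (s := (through P x).erase H)
      (t := H.toFinset.erase x)
    rw [Finset.sum_const_nat (m := c - 1) fun J hJ => ?_,
      Finset.sum_const_nat (m := lam - 1) fun y hy => ?_,
      Finset.card_erase_of_mem (mem_through.2 ⟨hH, hxH⟩),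
      Finset.card_erase_of_mem (Set.mem_toFinset.2 hxH), ← Set.ncard_eq_toFinset_card', hk H hH] at h
    · exact h
    · rw [Finset.mem_erase, Set.mem_toFinset] at hy
      rw [← hlam y hy.1,
        ← Finset.card_erase_of_mem (mem_through₂.2 ⟨hH, hxH, hy.2⟩ : H ∈ through₂ P x y)]
      congr 1
      ext J
      simp [Finset.bipartiteBelow, mem_through, mem_through₂]
      tauto
    · obtain ⟨hJH, hJ'⟩ := Finset.mem_erase.1 hJ
      obtain ⟨hPJ, hxJ⟩ := mem_through.1 hJ'
      rw [← hc J hPJ hxJ hJH, Set.ncard_eq_toFinset_card',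
        ← Finset.card_erase_of_mem (Set.mem_toFinset.2 (show x ∈ H ∩ J from ⟨hxH, hxJ⟩))]
      congr 1
      ext y
      simp [Finset.bipartiteAbove]
      tauto

theorem exists_psl (D : Fam G X p) :
    ∃ (m : ℕ) (F : Type) (_ : Field F) (_ : Fintype F), 2 ≤ m ∧
      Nat.card X = (Fintype.card F ^ (m + 1) - 1) / (Fintype.card F - 1) ∧
      ∃ N : Subgroup G, N.Normal ∧
        Nonempty (N ≃* Matrix.ProjectiveSpecialLinearGroup (Fin (m + 1)) F) ∧
        Subgroup.centralizer (N : Set G) = ⊥ := by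
  classical
  cases nonempty_fintype X
  obtain ⟨x0, y0, c0, hxy0, hc0, hc01, hc0y⟩ := D.nsr
  obtain ⟨H0, hH0, hx0, -⟩ := exists_axis_through (D := D) hxy0
  set q := Nat.card (D.Q x0 H0) with hq
  set k := H0.ncard with hkdef
  set s := Nat.card (D.A x0 y0) with hs
  have hq2 : 2 ≤ q := two_le_card_Q hH0 hx0
  obtain ⟨J0, hJ0, hxJ0, hne0⟩ := exists_two_axes hH0 hx0
  set c := (H0 ∩ J0).ncard with hcdef
  have hkc : k = 1 + q * c := ncard_eq_inter hH0 hJ0 hne0 hx0 hxJ0
  have hc1 : 1 ≤ c := by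
    rw [hcdef, Nat.one_le_iff_ne_zero, Ne, Set.ncard_eq_zero]
    exact fun h => by
      have h' : x0 ∈ H0 ∩ J0 := ⟨hx0, hxJ0⟩
      rw [h] at h'
      exact h'
  have hkJ : ∀ J, D.IsMax J → J.ncard = k := fun J hJ => ncard_const hJ hH0
  have hmeet : ∀ H, D.IsMax H → ∀ J, D.IsMax J → ∀ x, x ∈ H → x ∈ J → J ≠ H →
      (H ∩ J).ncard = c := by
    intro H hH J hJ x hxH hxJ hne
    have h := ncard_eq_inter hH hJ (Ne.symm hne) hxH hxJ
    rw [hkJ H hH, hH.card_Q_eq hH0 hxH hx0, hkc, ← hq] at h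
    exact Nat.eq_of_mul_eq_mul_left (by omega) (by omega : q * (H ∩ J).ncard = q * c)
  -- axes through one or two points partition `K x`, `A x y`
  have hK : ∀ x, Nat.card (D.K x) = 1 + (through D.IsMax x).card * (q - 1) := by
    intro x
    refine card_of_partition _ (fun J => D.Q x J) _ _ (fun g hg => ⟨fun hgK => ?_, ?_⟩)
      (fun i hi j hj hij g h1 h2 => by_contra fun hne => hij
        (((mem_through.1 hi).1.exact h1 hne).symm.trans ((mem_through.1 hj).1.exact h2 hne)))
      fun i hi => (mem_through.1 hi).1.card_Q_eq hH0 (mem_through.1 hi).2 hx0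
    · obtain ⟨y, hyx, hy⟩ := exists_fix_other hgK hg
      exact ⟨fixedBy X g, mem_through.2 ⟨(show D.IsAxis (fixedBy X g) from
        ⟨x, y, g, hyx.symm, D.mem_A.2 ⟨hgK, hy⟩, hg, rfl⟩).isMax, D.le_stab x g hgK⟩,
        D.mem_Q.2 ⟨hgK, fun z hz => hz⟩⟩
    · rintro ⟨J, -, hJ⟩
      exact (D.mem_Q.1 hJ).1
  have hA : ∀ x y, x ≠ y → s = 1 + (through₂ D.IsMax x y).card * (q - 1) := by
    intro x y hxy
    rw [hs, D.card_A_eq hxy0 hxy]
    refine card_of_partition _ (fun J => D.Q x J) _ _ (fun g hg => ⟨fun hgA => ?_, ?_⟩)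
      (fun i hi j hj hij g h1 h2 => by_contra fun hne => hij
        (((mem_through₂.1 hi).1.exact h1 hne).symm.trans ((mem_through₂.1 hj).1.exact h2 hne)))
      fun i hi => (mem_through₂.1 hi).1.card_Q_eq hH0 (mem_through₂.1 hi).2.1 hx0
    · exact ⟨fixedBy X g, mem_through₂.2 ⟨(show D.IsAxis (fixedBy X g) from
        ⟨x, y, g, hxy, hgA, hg, rfl⟩).isMax, D.A_fix_left hgA, (D.mem_A.1 hgA).2⟩,
        D.mem_Q.2 ⟨hgA.1, fun z hz => hz⟩⟩
    · rintro ⟨J, hJ, hgJ⟩
      exact D.Q_mem_A (mem_through₂.1 hJ).2.2 hgJ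
  obtain ⟨q', hq'⟩ := Nat.exists_eq_add_of_le hq2
  have hq1 : q - 1 = q' + 1 := by omega
  set lam := (through₂ D.IsMax x0 y0).card with hlamdef
  have hlamc : ∀ x y, x ≠ y → (through₂ D.IsMax x y).card = lam := by
    intro x y hxy
    have h1 := hA x y hxy
    rw [hA x0 y0 hxy0] at h1
    exact (Nat.eq_of_mul_eq_mul_right (by omega) (Nat.add_left_cancel h1)).symm
  have hlam1 : 1 ≤ lam := by
    obtain ⟨J, hJ, hx, hy⟩ := exists_axis_through (D := D) hxy0
    exact Finset.one_le_card.2 ⟨J, mem_through₂.2 ⟨hJ, hx, hy⟩⟩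
  have hr : ∀ x, (through D.IsMax x).card = 1 + q * lam := by
    intro x
    have h1 := hK x
    rw [D.card_K_eq x x0, ← hH0.card_Q hx0 hxy0, ← hs, ← hq, hA x0 y0 hxy0, hlamc x0 y0 hxy0, hq1,
      hq'] at h1
    rw [hq']
    have : (through D.IsMax x).card * (q' + 1) = (1 + (2 + q') * lam) * (q' + 1) := by
      nlinarith [h1]
    exact Nat.eq_of_mul_eq_mul_right (Nat.succ_pos q') this
  obtain ⟨hfull1, hfull2⟩ := counts D.IsMax x0 k lam hkJ
    fun y hy => hlamc x0 y (Ne.symm hy)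
  have hclam : c = lam := by
    have h := hfull2 H0 hH0 hx0 c fun J hJ hxJ hne => hmeet H0 hH0 J hJ x0 hx0 hxJ hne
    rw [hr, hkc, Nat.add_sub_cancel_left, Nat.add_sub_cancel_left, mul_assoc, mul_assoc] at h
    have h' := Nat.eq_of_mul_eq_mul_left (by omega : 0 < q) h
    obtain ⟨c', hc'⟩ := Nat.exists_eq_add_of_le hc1
    obtain ⟨l', hl'⟩ := Nat.exists_eq_add_of_le hlam1
    rw [hl', hc', Nat.add_sub_cancel_left, Nat.add_sub_cancel_left] at h'
    rw [hl', hc']
    nlinarith [h']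
  have hrk : ∀ x, (through D.IsMax x).card = k := fun x => by rw [hr, hkc, hclam]
  rw [hrk x0] at hfull1
  -- the orbit of `H0` contains all axes
  let P : Set X → Prop := fun J => J ∈ orbit G H0
  have hPmax : ∀ J, P J → D.IsMax J := by rintro J ⟨g, rfl⟩; exact hH0.smul g
  have hPk : ∀ J, P J → J.ncard = k := fun J h => hkJ J (hPmax J h)
  set l0 := (through₂ P x0 y0).card with hl0def
  have hl0 : ∀ x y, x ≠ y → (through₂ P x y).card = l0 := by
    intro x y hxy
    obtain ⟨g, rfl, rfl⟩ := D.two hxy0 hxy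
    symm
    refine Finset.card_equiv (MulAction.toPerm g) fun J => ?_
    rw [mem_through₂, mem_through₂, MulAction.toPerm_apply]
    refine and_congr ⟨?_, ?_⟩ (and_congr Set.smul_mem_smul_set_iff.symm
      Set.smul_mem_smul_set_iff.symm)
    · rintro ⟨a, rfl⟩
      exact ⟨g * a, mul_smul g a H0⟩
    · rintro ⟨a, ha⟩
      exact ⟨g⁻¹ * a, by
        have ha' : a • H0 = g • J := ha
        show (g⁻¹ * a) • H0 = J
        rw [mul_smul, ha', inv_smul_smul]⟩
  obtain ⟨hsub1, hsub2⟩ := counts P x0 k l0 hPk fun y hy => hl0 x0 y (Ne.symm hy)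
  have hk1 : 0 < k - 1 := by
    have : 1 ≤ q * c := Nat.one_le_iff_ne_zero.2 (mul_ne_zero (by omega) (by omega))
    omega
  have hl0lam : l0 = lam := by
    have hPH : P H0 := mem_orbit_self H0
    have h2 := hsub2 H0 hPH hx0 c fun J hJ hxJ hne => hmeet H0 hH0 J (hPmax J hJ) x0 hx0 hxJ hne
    have hr0 : 1 ≤ (through P x0).card := Finset.one_le_card.2 ⟨H0, mem_through.2 ⟨hPH, hx0⟩⟩
    have hl01 : 1 ≤ l0 := by
      obtain ⟨v, hv, hvx⟩ := hH0.1.exists_other x0
      rw [← hl0 x0 v hvx.symm]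
      exact Finset.one_le_card.2 ⟨H0, mem_through₂.2 ⟨hPH, hx0, hv⟩⟩
    have h1 : (through P x0).card * lam = l0 * k := by
      refine Nat.eq_of_mul_eq_mul_right hk1 ?_
      calc (through P x0).card * lam * (k - 1) = (through P x0).card * (k - 1) * lam := by ring
        _ = l0 * (lam * (Nat.card X - 1)) := by rw [hsub1]; ring
        _ = l0 * k * (k - 1) := by rw [← hfull1]; ring
    rw [hkc, hclam, Nat.add_sub_cancel_left] at h2
    rw [hkc, hclam] at h1
    zify [hr0, hl01, hlam1] at h1 h2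
    have h3 : ((l0 : ℤ) - lam) * ((lam : ℤ) - 1 - q * lam) = 0 := by
      linear_combination (lam : ℤ) * h2 - ((lam : ℤ) - 1) * h1
    rcases mul_eq_zero.1 h3 with h4 | h4
    · exact_mod_cast sub_eq_zero.1 h4
    · exfalso; nlinarith
  have hr0 : ∀ x, (through P x).card = k := by
    intro x
    obtain ⟨h, -⟩ := counts P x k l0 hPk fun y hy => hl0 x y (Ne.symm hy)
    rw [hl0lam, ← hfull1] at h
    exact Nat.eq_of_mul_eq_mul_right hk1 h
  have hidx : (stabilizer G H0).index = Nat.card X := by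
    have h := Finset.sum_card_bipartiteAbove_eq_sum_card_bipartiteBelow
      (r := fun (J : Set X) (y : X) => y ∈ J) (s := (orbit G H0).toFinset) (t := Finset.univ)
    rw [Finset.sum_const_nat (m := k) fun J hJ => ?_, Finset.sum_const_nat (m := k) fun y _ => ?_,
      Finset.card_univ, ← Nat.card_eq_fintype_card, ← Set.ncard_eq_toFinset_card',
      ← index_stabilizer] at h
    · exact Nat.eq_of_mul_eq_mul_right (by omega) h
    · rw [← hr0 y]
      congr 1
      ext J
      simp [Finset.bipartiteBelow, mem_through, P]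
    · rw [← hPk J (Set.mem_toFinset.1 hJ), Set.ncard_eq_toFinset_card']
      congr 1
      ext y
      simp [Finset.bipartiteAbove]
  obtain ⟨z, hz⟩ := hH0.1.exists_not_mem
  have hS : ∀ h : stabilizer G H0, ∀ w, w ∈ H0 → (h : G) • w ∈ H0 := fun h w hw => by
    have := Set.smul_mem_smul_set (a := (h : G)) hw
    rwa [show (h : G) • H0 = H0 from h.2] at this
  have h2t : MulAction.IsMultiplyPretransitive G X 2 :=
    is_two_pretransitive_iff.2 fun h h' => D.two h h'
  refine Cfsg.Agent.SymDesignPG.exists_psl h2t (stabilizer G H0) hidx (fun htr => ?_) (fun a => ?_) ?_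
  · obtain ⟨h, hh⟩ := htr.exists_smul_eq x0 z
    exact hz (hh ▸ hS h x0 hx0)
  · by_cases ha : a ∈ H0
    · obtain ⟨x, hx, hxa⟩ := hH0.1.exists_other a
      obtain ⟨n, hn, hn'⟩ := D.exists_moving hxa
      have hst : n • H0 = H0 := by
        refine Set.eq_of_subset_of_ncard_le ?_ ?_ (Set.toFinite _)
        · rintro w ⟨v, hv, rfl⟩
          exact hH0.1.smul_mem hx hn hv
        · rw [← Set.image_smul, Set.ncard_image_of_injective _ (MulAction.injective n)]
      exact ⟨⟨n, hst⟩, fun h => hn' (D.mem_A.2 ⟨hn, h⟩)⟩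
    · obtain ⟨e, he, he1⟩ := hH0.mem_Q_of_fix hx0
      have hst : e • H0 = H0 := by
        ext w
        rw [Set.mem_smul_set_iff_inv_smul_mem]
        constructor
        · intro hw
          have := (D.mem_Q.1 he).2 _ hw
          rw [smul_inv_smul] at this
          rwa [← this] at hw
        · intro hw
          rwa [inv_smul_eq_iff.2 ((D.mem_Q.1 he).2 w hw).symm]
      exact ⟨⟨e, hst⟩, fun h => ha (hH0.exact he he1 ▸ (h : a ∈ fixedBy X e))⟩
  · obtain ⟨e, he, he1⟩ := hH0.mem_Q_of_fix hx0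
    have hst : e • H0 = H0 := by
      ext w
      rw [Set.mem_smul_set_iff_inv_smul_mem]
      constructor
      · intro hw
        have := (D.mem_Q.1 he).2 _ hw
        rw [smul_inv_smul] at this
        rwa [← this] at hw
      · intro hw
        rwa [inv_smul_eq_iff.2 ((D.mem_Q.1 he).2 w hw).symm]
    refine ⟨x0, ⟨e, hst⟩, fun h => he1 (congrArg Subtype.val h), fun b hb => ?_⟩
    obtain ⟨h, rfl⟩ := hb
    exact (D.mem_Q.1 he).2 _ (hS h x0 hx0)

end Fam

end CfsgLib.ONanTI
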