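import Mathlib

/-!
# O'Nan's theorem: lines

A finite group `G`, 2-transitive and faithful on `X`, with an equivariant family `K x` of abelian
`p`-subgroups of the point stabilizers, meeting trivially, not semiregular off their points
(abelian TI normal subgroups of the point stabilizers).  `A x y = K x ∩ G_y`.  The fixed set of
`A x y` is symmetric in `x, y`, the fixed sets are the lines of a linear space, every element of
`K x` is a central collineation with centre `x`, and the commutator map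
`K x × A y x → A x y` is non-singular and preserves fixed sets.
-/

set_option autoImplicit false
set_option linter.unusedSectionVars false

namespace CfsgLib.ONanTI

open MulAction

/-- An equivariant TI family of abelian `p`-subgroups of point stabilizers. -/
structure Fam (G X : Type*) [Group G] [MulAction G X] (p : ℕ) where
  K : X → Subgroup G
  prime : p.Prime
  isP : ∀ x, IsPGroup p (K x)
  le_stab : ∀ x, ∀ c ∈ K x, c • x = x
  conj : ∀ g x c, c ∈ K x → g * c * g⁻¹ ∈ K (g • x)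
  inter : ∀ {x y}, x ≠ y → ∀ c ∈ K x, c ∈ K y → c = 1
  comm : ∀ x, ∀ a ∈ K x, ∀ b ∈ K x, a * b = b * a
  two : ∀ {a b c d : X}, a ≠ b → c ≠ d → ∃ g : G, g • a = c ∧ g • b = d
  nsr : ∃ x y c, x ≠ y ∧ c ∈ K x ∧ c ≠ 1 ∧ c • y = y

variable {G X : Type*} [Group G] [Finite G] [MulAction G X] [FaithfulSMul G X] [Finite X] {p : ℕ}
  (D : Fam G X p)

namespace Fam

/-- The elements of `K x` fixing `y`. -/
def A (x y : X) : Subgroup G := D.K x ⊓ stabilizer G y

theorem mem_A {x y : X} {c : G} : c ∈ D.A x y ↔ c ∈ D.K x ∧ c • y = y := Iff.rfl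

theorem A_fix_left {x y : X} {c : G} (h : c ∈ D.A x y) : c • x = x := D.le_stab x c h.1

theorem conj_A {x y : X} (g : G) {c : G} (h : c ∈ D.A x y) :
    g * c * g⁻¹ ∈ D.A (g • x) (g • y) :=
  ⟨D.conj g x c h.1, show (g * c * g⁻¹) • g • y = g • y by simp [mul_smul, (D.mem_A.1 h).2]⟩

theorem conj_K_fix {x : X} {g : G} (hg : g • x = x) {c : G} (h : c ∈ D.K x) :
    g * c * g⁻¹ ∈ D.K x := by
  have := D.conj g x c h
  rwa [hg] at this

theorem conj_A_fix {x y : X} {g : G} (hx : g • x = x) (hy : g • y = y) {c : G} (h : c ∈ D.A x y) :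
    g * c * g⁻¹ ∈ D.A x y := by
  have := D.conj_A g h
  rwa [hx, hy] at this

theorem card_A_le {x y x' y' : X} (h : x ≠ y) (h' : x' ≠ y') :
    Nat.card (D.A x y) ≤ Nat.card (D.A x' y') := by
  obtain ⟨g, hgx, hgy⟩ := D.two h h'
  refine Nat.card_le_card_of_injective
    (fun c : D.A x y => (⟨g * c.1 * g⁻¹, hgx ▸ hgy ▸ D.conj_A g c.2⟩ : D.A x' y')) ?_
  intro a b hab
  have := congrArg Subtype.val hab
  simpa using this

theorem card_A_eq {x y x' y' : X} (h : x ≠ y) (h' : x' ≠ y') :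
    Nat.card (D.A x y) = Nat.card (D.A x' y') :=
  le_antisymm (D.card_A_le h h') (D.card_A_le h' h)

theorem exists_A_ne_one {x y : X} (h : x ≠ y) : ∃ c ∈ D.A x y, c ≠ 1 := by
  obtain ⟨u, v, c, huv, hc, hc1, hcv⟩ := D.nsr
  obtain ⟨g, rfl, rfl⟩ := D.two huv h
  exact ⟨_, D.conj_A g (D.mem_A.2 ⟨hc, hcv⟩), fun e => hc1 (by simpa using e)⟩

theorem exists_moving {x y : X} (h : x ≠ y) : ∃ n ∈ D.K x, n ∉ D.A x y := by
  by_contra hcon
  push Not at hcon
  obtain ⟨c, hc, hc1⟩ := D.exists_A_ne_one h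
  refine hc1 (eq_of_smul_eq_smul fun z : X => ?_)
  rw [one_smul]
  by_cases hz : x = z
  · subst hz; exact D.A_fix_left hc
  obtain ⟨g, hgx, hgy⟩ := D.two h hz
  have hg : g⁻¹ • x = x := by rw [inv_smul_eq_iff, hgx]
  have h1 := (D.mem_A.1 (hcon _ (D.conj_K_fix hg hc.1))).2
  rw [inv_inv, mul_smul, mul_smul, hgy, inv_smul_eq_iff, hgy] at h1
  exact h1

/-- `A x y` and `A y x` commute. -/
theorem commute_A {x y : X} (h : x ≠ y) {a b : G} (ha : a ∈ D.A x y) (hb : b ∈ D.A y x) :
    a * b = b * a := by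
  have hx : a * (b * a⁻¹ * b⁻¹) ∈ D.K x :=
    mul_mem ha.1 (D.conj_K_fix (D.mem_A.1 hb).2 (inv_mem ha.1))
  have hy : a * (b * a⁻¹ * b⁻¹) ∈ D.K y := by
    have := mul_mem (D.conj_K_fix (D.mem_A.1 ha).2 hb.1) (inv_mem hb.1)
    simpa [mul_assoc] using this
  have := D.inter h _ hx hy
  have h' : a * b * a⁻¹ * b⁻¹ = 1 := by simpa [mul_assoc] using this
  calc a * b = (a * b * a⁻¹ * b⁻¹) * (b * a) := by group
    _ = b * a := by rw [h', one_mul]

/-- An element of `K x` commuting with a non-trivial element of `A y x` fixes `y`. -/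
theorem mem_A_of_commute {x y : X} {b n : G} (hb : b ∈ D.A y x) (hb1 : b ≠ 1) (hn : n ∈ D.K x)
    (hc : n * b = b * n) : n ∈ D.A x y := by
  refine D.mem_A.2 ⟨hn, ?_⟩
  by_contra hne
  refine hb1 (D.inter hne b ?_ hb.1)
  have := D.conj n y b hb.1
  rwa [hc, mul_inv_cancel_right] at this

/-- The commutator map. -/
def f (n b : G) : G := n⁻¹ * (b * n * b⁻¹)

theorem f_inj {x y : X} {n b b' : G} (hn : n ∈ D.K x) (hn' : n ∉ D.A x y) (hb : b ∈ D.A y x)
    (hb' : b' ∈ D.A y x) (h : f n b = f n b') : b = b' := by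
  by_contra hne
  refine hn' (D.mem_A_of_commute (mul_mem (inv_mem hb') hb)
    (fun e => hne (inv_mul_eq_one.1 e).symm) hn ?_)
  have h2 : b * n * b⁻¹ = b' * n * b'⁻¹ := mul_left_cancel h
  calc n * (b'⁻¹ * b) = b'⁻¹ * (b' * n * b'⁻¹) * b := by group
    _ = b'⁻¹ * (b * n * b⁻¹) * b := by rw [h2]
    _ = b'⁻¹ * b * n := by group

/-- If `A y x` fixes `z` then `A x z = A x y`. -/
theorem A_eq_of_fix {x y z : X} (hxy : x ≠ y) (hzx : z ≠ x)
    (hfix : ∀ b ∈ D.A y x, b • z = z) : D.A x z = D.A x y := by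
  have hcard := D.card_A_eq (Ne.symm hzx) hxy
  have : Fact p.Prime := ⟨D.prime⟩
  suffices h : D.A x z ≤ D.A x y from Subgroup.eq_of_le_of_card_ge h hcard.ge
  by_contra hnle
  set A' := D.A x z
  set B := D.A y x
  have hnorm : ∀ b ∈ B, ∀ u ∈ A', b * u * b⁻¹ ∈ A' := fun b hb u hu =>
    D.conj_A_fix (D.mem_A.1 hb).2 (hfix b hb) hu
  have hBn : B ≤ Subgroup.normalizer (A' : Set G) := by
    intro b hb
    rw [Subgroup.mem_normalizer_iff]
    refine fun u => ⟨hnorm b hb u, fun hu => ?_⟩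
    simpa [mul_assoc] using hnorm b⁻¹ (inv_mem hb) _ hu
  set T : Subgroup G := A' ⊔ B with hT
  have hTp : IsPGroup p T :=
    ((D.isP x).to_le inf_le_left).to_sup_of_normal_left' ((D.isP y).to_le inf_le_left) hBn
  have hnil : Group.IsNilpotent T := hTp.isNilpotent
  have key : ∃ u ∈ A', u ∉ D.A x y ∧ ∀ b ∈ B, f u b ∈ D.A x y := by
    by_contra hcon
    push Not at hcon
    have hiter : ∀ k, ∃ u : T, (u : G) ∈ A' ∧ (u : G) ∉ D.A x y ∧
        u ∈ Subgroup.lowerCentralSeries (⊤ : Subgroup T) k := by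
      intro k
      induction k with
      | zero =>
        obtain ⟨u, hu, hu'⟩ := SetLike.not_le_iff_exists.1 hnle
        exact ⟨⟨u, Subgroup.mem_sup_left hu⟩, hu, hu', by simp⟩
      | succ k ih =>
        obtain ⟨u, hu, hu', hk⟩ := ih
        obtain ⟨b, hb, hb'⟩ := hcon u hu hu'
        have hfT : (u : G)⁻¹ * (b * u * b⁻¹) ∈ A' := mul_mem (inv_mem hu) (hnorm b hb u hu)
        refine ⟨u⁻¹ * ((⟨b, Subgroup.mem_sup_right hb⟩ : T) * u *
          (⟨b, Subgroup.mem_sup_right hb⟩ : T)⁻¹), hfT, hb', ?_⟩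
        rw [Subgroup.lowerCentralSeries_succ]
        have hmem := Subgroup.commutator_mem_commutator (inv_mem hk)
          (Subgroup.mem_top (⟨b, Subgroup.mem_sup_right hb⟩ : T))
        simpa [commutatorElement_def, mul_assoc] using hmem
    obtain ⟨k, hk⟩ := Subgroup.nilpotent_iff_lowerCentralSeries.1 hnil
    obtain ⟨u, -, hu', hu⟩ := hiter k
    rw [hk, Subgroup.mem_bot] at hu
    subst hu
    exact hu' (one_mem _)
  obtain ⟨u, hu, hu', hf⟩ := key
  have hbij : Function.Bijective (fun b : B => (⟨f u b, hf b b.2⟩ : D.A x y)) :=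
    Function.Injective.bijective_of_nat_card_le
      (fun b b' e => Subtype.ext (D.f_inj hu.1 hu' b.2 b'.2 (congrArg Subtype.val e)))
      (D.card_A_eq hxy hxy.symm).le
  have hle : D.A x y ≤ A' := fun a ha => by
    obtain ⟨b, hb⟩ := hbij.2 ⟨a, ha⟩
    rw [← show f u b.1 = a from congrArg Subtype.val hb]
    exact mul_mem (inv_mem hu) (hnorm b b.2 u hu)
  rw [Subgroup.eq_of_le_of_card_ge hle hcard.le] at hu'
  exact hu' hu

/-- The line through two points. -/
def line (x y : X) : Set X := {z | ∀ c ∈ D.A x y, c • z = z}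

theorem right_mem_line (x y : X) : y ∈ D.line x y := fun _ hc => (D.mem_A.1 hc).2

theorem left_mem_line (x y : X) : x ∈ D.line x y := fun _ hc => D.A_fix_left hc

theorem line_sub {x y : X} (hxy : x ≠ y) : D.line y x ⊆ D.line x y := by
  intro z hz
  by_cases hzx : z = x
  · subst hzx; exact D.left_mem_line _ y
  intro c hc
  rw [← D.A_eq_of_fix hxy hzx hz] at hc
  exact (D.mem_A.1 hc).2

theorem line_symm {x y : X} (hxy : x ≠ y) : D.line x y = D.line y x :=
  (D.line_sub hxy.symm).antisymm (D.line_sub hxy)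

theorem A_eq_of_mem {x y z : X} (hxy : x ≠ y) (hz : z ∈ D.line x y) (hzx : z ≠ x) :
    D.A x z = D.A x y := by
  rw [D.line_symm hxy] at hz
  exact D.A_eq_of_fix hxy hzx hz

theorem line_eq {x y z : X} (hxy : x ≠ y) (hz : z ∈ D.line x y) (hzx : z ≠ x) :
    D.line x z = D.line x y := by
  rw [line, line, D.A_eq_of_mem hxy hz hzx]

theorem line_pair {x y u v : X} (hxy : x ≠ y) (hu : u ∈ D.line x y) (hv : v ∈ D.line x y)
    (huv : u ≠ v) : D.line u v = D.line x y := by
  by_cases hux : u = x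
  · subst hux; exact D.line_eq hxy hv huv.symm
  · have h1 : D.line x u = D.line x y := D.line_eq hxy hu hux
    rw [D.line_symm (Ne.symm hux)] at h1
    rw [D.line_eq hux (h1 ▸ hv) huv.symm, h1]

theorem smul_mem_line {x y z : X} (g : G) (hz : z ∈ D.line x y) :
    g • z ∈ D.line (g • x) (g • y) := by
  intro c hc
  have h1 := D.conj_A g⁻¹ hc
  rw [inv_smul_smul, inv_smul_smul] at h1
  have h2 := hz _ h1
  rw [inv_inv, mul_smul, mul_smul, inv_smul_eq_iff] at h2
  exact h2

/-- Elements of `K x` fix every line through `x`. -/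
theorem K_mem_line {x z : X} {n : G} (hn : n ∈ D.K x) : n • z ∈ D.line x z := by
  intro c hc
  rw [← mul_smul, D.comm x c hc.1 n hn, mul_smul, (D.mem_A.1 hc).2]

/-- The fixed set of an element of `K w` is a subspace. -/
theorem fix_line {w u v z : X} {c : G} (hc : c ∈ D.K w) (huv : u ≠ v) (hu : c • u = u)
    (hv : c • v = v) (hz : z ∈ D.line u v) : c • z = z := by
  by_cases hw : w ∈ D.line u v
  · obtain ⟨t, htL, hct, htw⟩ : ∃ t ∈ D.line u v, c • t = t ∧ t ≠ w := by
      by_cases huw : u = w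
      · exact ⟨v, D.right_mem_line u v, hv, fun h => huv (huw.trans h.symm)⟩
      · exact ⟨u, D.left_mem_line u v, hu, huw⟩
    rw [← D.line_pair huv hw htL htw.symm] at hz
    exact hz c (D.mem_A.2 ⟨hc, hct⟩)
  · by_contra hne
    have hwz : w ≠ z := fun h => hw (h ▸ hz)
    have h1 : c • z ∈ D.line u v := by
      have := D.smul_mem_line c hz
      rwa [hu, hv] at this
    have h2 := D.line_pair huv hz h1 (Ne.symm hne)
    have h3 := D.line_pair hwz (D.right_mem_line w z) (D.K_mem_line (z := z) hc) (Ne.symm hne)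
    exact hw (h2 ▸ h3 ▸ D.left_mem_line w z)

theorem f_mem {x y : X} (hxy : x ≠ y) {n b : G} (hn : n ∈ D.K x) (hb : b ∈ D.A y x) :
    f n b ∈ D.A x y := by
  refine D.mem_A.2 ⟨mul_mem (inv_mem hn) (D.conj_K_fix (D.mem_A.1 hb).2 hn), ?_⟩
  have h1 : n • y ∈ D.line y x := D.line_symm hxy ▸ D.K_mem_line hn
  have h2 : b⁻¹ • y = y := inv_smul_eq_iff.2 (D.A_fix_left hb).symm
  rw [f, mul_smul, mul_smul, mul_smul, h2, h1 b hb, inv_smul_smul]

theorem f_bijective {x y : X} (hxy : x ≠ y) {n : G} (hn : n ∈ D.K x) (hn' : n ∉ D.A x y) :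
    Function.Bijective (fun b : D.A y x => (⟨f n b, D.f_mem hxy hn b.2⟩ : D.A x y)) :=
  Function.Injective.bijective_of_nat_card_le
    (fun b b' e => Subtype.ext (D.f_inj hn hn' b.2 b'.2 (congrArg Subtype.val e)))
    (D.card_A_eq hxy hxy.symm).le

theorem fixedBy_sub_f {x y : X} {n b : G} (hn : n ∈ D.K x) (hb : b ∈ D.A y x) :
    fixedBy X b ⊆ fixedBy X (f n b) := by
  intro u hu
  rw [mem_fixedBy] at hu ⊢
  have h2 : b⁻¹ • u = u := inv_smul_eq_iff.2 hu.symm
  rw [f, mul_smul, mul_smul, mul_smul, h2, inv_smul_eq_iff]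
  by_cases hux : x = u
  · subst hux; rw [D.le_stab _ n hn]; exact hu
  · exact D.fix_line hb.1 hux (D.mem_A.1 hb).2 hu (D.K_mem_line hn)

/-- The commutator map preserves fixed sets. -/
theorem fixedBy_f {x y : X} (hxy : x ≠ y) {n b : G} (hn : n ∈ D.K x) (hn' : n ∉ D.A x y)
    (hb : b ∈ D.A y x) : fixedBy X (f n b) = fixedBy X b := by
  classical
  cases nonempty_fintype G
  let e : D.A y x ≃ D.A x y := Equiv.ofBijective _ (D.f_bijective hxy hn hn')
  obtain ⟨g, hgx, hgy⟩ := D.two hxy hxy.symm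
  let c : D.A x y → D.A y x := fun a => ⟨g * a.1 * g⁻¹, by
    have := D.conj_A g a.2
    rwa [hgx, hgy] at this⟩
  have hc : Function.Bijective c := Function.Injective.bijective_of_nat_card_le
    (fun a a' h => Subtype.ext (by simpa [c] using congrArg Subtype.val h))
    (D.card_A_eq hxy hxy.symm).ge
  have hcfix : ∀ a, (fixedBy X (c a).1).ncard = (fixedBy X a.1).ncard := fun a => by
    rw [show fixedBy X (c a).1 = (g • ·) '' fixedBy X a.1 from
      (smul_fixedBy X a.1 g).symm.trans (Set.image_smul).symm,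
      Set.ncard_image_of_injective _ (MulAction.injective g)]
  have hsum : ∑ b : D.A y x, (fixedBy X b.1).ncard
      = ∑ b : D.A y x, (fixedBy X (e b).1).ncard := by
    rw [e.sum_comp fun a : D.A x y => (fixedBy X a.1).ncard,
      ← Fintype.sum_bijective c hc _ _ fun a => (hcfix a).symm]
  have hle : ∀ b ∈ (Finset.univ : Finset (D.A y x)),
      (fixedBy X b.1).ncard ≤ (fixedBy X (e b).1).ncard := fun b _ =>
    Set.ncard_le_ncard (D.fixedBy_sub_f hn b.2) (Set.toFinite _)
  have h := (Finset.sum_eq_sum_iff_of_le hle).1 hsum ⟨b, hb⟩ (Finset.mem_univ _)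
  exact (Set.eq_of_subset_of_ncard_le (D.fixedBy_sub_f hn hb) h.ge (Set.toFinite _)).symm

end Fam

end CfsgLib.ONanTI
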