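import Cfsg.Agent.ONanTI.Design

/-!
# O'Nan's theorem

A finite 2-transitive group whose point stabilizer has an abelian normal subgroup that is not
semiregular on the other points contains `PSL_n(q)`, `n ≥ 3`, in its natural action.

The TI property is immediate: with `D = K x ∩ K y`, the sets `{z | D ≤ K z}` are the lines of a
linear space fixed by all `K z` through their points, so an element of `D` fixes every point off
its line, hence every point.
-/

set_option autoImplicit false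
set_option linter.unusedSectionVars false

namespace CfsgLib.ONanTI

open MulAction

variable {G X : Type*} [Group G] [Finite G] [MulAction G X] [FaithfulSMul G X] [Finite X]

/-- Equivariant families of abelian subgroups of point stabilizers fixing only their point are TI. -/
theorem inter_eq_one (K : X → Subgroup G) (hle : ∀ x, ∀ c ∈ K x, c • x = x)
    (hconj : ∀ g x c, c ∈ K x → g * c * g⁻¹ ∈ K (g • x))
    (hcomm : ∀ x, ∀ a ∈ K x, ∀ b ∈ K x, a * b = b * a)
    (two : ∀ {a b c d : X}, a ≠ b → c ≠ d → ∃ g : G, g • a = c ∧ g • b = d)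
    (hmove : ∀ {x y : X}, x ≠ y → ∃ n ∈ K x, n • y ≠ y)
    {x y : X} (hxy : x ≠ y) {d : G} (hdx : d ∈ K x) (hdy : d ∈ K y) : d = 1 := by
  by_contra hd1
  let L : X → X → Set X := fun a b => {z | K a ⊓ K b ≤ K z}
  have hleft : ∀ a b, a ∈ L a b := fun a b => (inf_le_left : K a ⊓ K b ≤ K a)
  have hright : ∀ a b, b ∈ L a b := fun a b => (inf_le_right : K a ⊓ K b ≤ K b)
  have hcardle : ∀ {a b a' b' : X}, a ≠ b → a' ≠ b' →
      Nat.card (K a ⊓ K b : Subgroup G) ≤ Nat.card (K a' ⊓ K b' : Subgroup G) := by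
    intro a b a' b' hab hab'
    obtain ⟨g, rfl, rfl⟩ := two hab hab'
    exact Nat.card_le_card_of_injective
      (fun c : (K a ⊓ K b : Subgroup G) => (⟨g * c.1 * g⁻¹,
        ⟨hconj g a c c.2.1, hconj g b c c.2.2⟩⟩ : (K (g • a) ⊓ K (g • b) : Subgroup G)))
      (fun u v h => Subtype.ext (by simpa using congrArg Subtype.val h))
  have hpair : ∀ {a b u v : X}, a ≠ b → u ∈ L a b → v ∈ L a b → u ≠ v → L u v = L a b := by
    intro a b u v hab hu hv huv
    have h := Subgroup.eq_of_le_of_card_ge (le_inf hu hv : K a ⊓ K b ≤ K u ⊓ K v) (hcardle huv hab)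
    change {z | K u ⊓ K v ≤ K z} = {z | K a ⊓ K b ≤ K z}
    rw [h]
  have hsmul : ∀ (g : G) {a b z : X}, z ∈ L a b → g • z ∈ L (g • a) (g • b) := by
    intro g a b z hz c hc
    have h1 : g⁻¹ * c * g⁻¹⁻¹ ∈ K z := hz ⟨by
      have := hconj g⁻¹ _ c hc.1
      rwa [inv_smul_smul] at this, by
      have := hconj g⁻¹ _ c hc.2
      rwa [inv_smul_smul] at this⟩
    have := hconj g z _ h1
    simpa [mul_assoc] using this
  have hK : ∀ {a z : X} {n : G}, n ∈ K a → n • z ∈ L a z := by
    intro a z n hn c hc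
    have := hconj n z c hc.2
    rwa [hcomm a n hn c hc.1, mul_inv_cancel_right] at this
  have hdL : ∀ {z : X}, z ∈ L x y → d ∈ K z := fun hz => hz ⟨hdx, hdy⟩
  obtain ⟨u, hu⟩ : ∃ u, u ∉ L x y := by
    by_contra hcon
    push Not at hcon
    exact hd1 (eq_of_smul_eq_smul fun z : X => by rw [one_smul]; exact hle z d (hdL (hcon z)))
  have hoff : ∀ u, u ∉ L x y → d • u = u := by
    intro u hu
    by_contra hne
    have hxu : x ≠ u := fun h => hu (h ▸ hleft x y)
    have hyu : y ≠ u := fun h => hu (h ▸ hright x y)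
    have h1 := hpair hxu (hright x u) (hK (z := u) hdx) (Ne.symm hne)
    have h2 := hpair hyu (hright y u) (hK (z := u) hdy) (Ne.symm hne)
    have hy : y ∈ L x u := by rw [← h1, h2]; exact hleft y u
    rw [← hpair hxu (hleft x u) hy hxy] at h1
    exact hu (by rw [← h1]; exact hleft u (d • u))
  refine hd1 (eq_of_smul_eq_smul fun w : X => ?_)
  rw [one_smul]
  by_cases hw : w ∈ L x y
  · by_contra hne
    have huw : u ≠ w := fun h => hu (h ▸ hw)
    obtain ⟨n, hn, hnw⟩ := hmove huw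
    have hu' : n • w ∈ L u w := hK hn
    have hu'u : u ≠ n • w := fun h => huw (MulAction.injective n ((hle u n hn).trans h))
    have hu'L : n • w ∉ L x y := fun h => hu (by
      have e : L w (n • w) = L u w := hpair huw (hright u w) hu' (Ne.symm hnw)
      rw [← hpair hxy hw h (Ne.symm hnw), e]
      exact hleft u w)
    have hline := hpair huw (hleft u w) hu' hu'u
    have hw' : w ∈ L u (n • w) := hline ▸ hright u w
    have hdw : d • w ∈ L u w := by
      have := hsmul d hw'
      rwa [hoff u hu, hoff _ hu'L, hline] at this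
    have hdwL : d • w ∈ L x y := by
      by_cases hxw : x = w
      · exact absurd (hxw ▸ hle x d hdx) hne
      · have h := hK (z := w) hdx
        rwa [hpair hxy (hleft x y) hw hxw] at h
    refine hu ?_
    rw [← hpair hxy hw hdwL (Ne.symm hne), hpair huw (hright u w) hdw (Ne.symm hne)]
    exact hleft u w
  · exact hoff w hw

/-- O'Nan's theorem. -/
theorem exists_psl_of_abelian (h2 : MulAction.IsMultiplyPretransitive G X 2) (x : X)
    (N : Subgroup G) (hNle : N ≤ stabilizer G x)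
    (hNnormal : ∀ g ∈ stabilizer G x, ∀ n ∈ N, g * n * g⁻¹ ∈ N) (hNab : IsMulCommutative N)
    (hnsr : ∃ n ∈ N, n ≠ 1 ∧ ∃ y : X, y ≠ x ∧ n • y = y) :
    ∃ (m : ℕ) (F : Type) (_ : Field F) (_ : Fintype F), 2 ≤ m ∧
      Nat.card X = (Fintype.card F ^ (m + 1) - 1) / (Fintype.card F - 1) ∧
      ∃ L : Subgroup G, L.Normal ∧
        Nonempty (L ≃* Matrix.ProjectiveSpecialLinearGroup (Fin (m + 1)) F) ∧
        Subgroup.centralizer (L : Set G) = ⊥ := by
  obtain ⟨n, hn, hn1, y, hyx, hny⟩ := hnsr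
  have hcomm : ∀ a ∈ N, ∀ b ∈ N, a * b = b * a := fun a ha b hb =>
    congrArg Subtype.val (hNab.is_comm.comm ⟨a, ha⟩ ⟨b, hb⟩)
  obtain ⟨p, hp, hpd⟩ := Nat.exists_prime_and_dvd (fun h => hn1 (orderOf_eq_one_iff.1 h))
  let P : Subgroup G :=
    { carrier := {c | c ∈ N ∧ ∃ k : ℕ, c ^ p ^ k = 1}
      one_mem' := ⟨one_mem _, 0, one_pow _⟩
      mul_mem' := by
        rintro a b ⟨ha, i, hi⟩ ⟨hb, j, hj⟩
        refine ⟨mul_mem ha hb, i + j, ?_⟩
        rw [(show Commute a b from hcomm a ha b hb).mul_pow, pow_add, pow_mul, hi, one_pow, one_mul,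
          mul_comm, pow_mul, hj, one_pow]
      inv_mem' := by
        rintro a ⟨ha, i, hi⟩
        exact ⟨inv_mem ha, i, by rw [inv_pow, hi, inv_one]⟩ }
  obtain ⟨c0, hc0, hc01, hc0y⟩ : ∃ c ∈ P, c ≠ 1 ∧ c • y = y := by
    refine ⟨n ^ (orderOf n / p), ⟨pow_mem hn _, 1, ?_⟩, ?_, ?_⟩
    · rw [pow_one, ← pow_mul, Nat.div_mul_cancel hpd, pow_orderOf_eq_one]
    · have hpos := (orderOf_pos n)
      refine pow_ne_one_of_lt_orderOf ?_ (Nat.div_lt_self hpos hp.one_lt)
      exact (Nat.div_pos (Nat.le_of_dvd hpos hpd) hp.pos).ne'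
    · exact pow_mem (show n ∈ stabilizer G y from hny) _
  have two : ∀ {a b c d : X}, a ≠ b → c ≠ d → ∃ g : G, g • a = c ∧ g • b = d :=
    fun h h' => is_two_pretransitive_iff.1 h2 h h'
  have : MulAction.IsPretransitive G X := MulAction.isPretransitive_of_is_two_pretransitive
  choose t ht using fun z : X => MulAction.exists_smul_eq G x z
  let K : X → Subgroup G := fun z => P.map (MulAut.conj (t z)).toMonoidHom
  have hmemK : ∀ {z : X} {c : G}, c ∈ K z ↔ (t z)⁻¹ * c * t z ∈ P := by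
    intro z c
    simp only [K, Subgroup.mem_map, MulEquiv.coe_toMonoidHom, MulAut.conj_apply]
    constructor
    · rintro ⟨m, hm, rfl⟩
      simpa [mul_assoc] using hm
    · exact fun h => ⟨_, h, by group⟩
  have hPn : ∀ g, g • x = x → ∀ c ∈ P, g * c * g⁻¹ ∈ P := by
    rintro g hg c ⟨hc, k, hk⟩
    exact ⟨hNnormal g hg c hc, k, by rw [conj_pow, hk, mul_one, mul_inv_cancel]⟩
  have hle : ∀ z, ∀ c ∈ K z, c • z = z := by
    intro z c hc
    have h : ((t z)⁻¹ * c * t z) • x = x := hNle (hmemK.1 hc).1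
    rwa [mul_smul, mul_smul, ht z, inv_smul_eq_iff, ht z] at h
  have hconj : ∀ g z c, c ∈ K z → g * c * g⁻¹ ∈ K (g • z) := by
    intro g z c hc
    have hh : ((t (g • z))⁻¹ * g * t z) • x = x := by
      rw [mul_smul, mul_smul, ht z, inv_smul_eq_iff, ht]
    have := hPn _ hh _ (hmemK.1 hc)
    rw [hmemK]
    simpa [mul_assoc] using this
  have hKcomm : ∀ z, ∀ a ∈ K z, ∀ b ∈ K z, a * b = b * a := by
    intro z a ha b hb
    have := hcomm _ (hmemK.1 ha).1 _ (hmemK.1 hb).1
    calc a * b = t z * (((t z)⁻¹ * a * t z) * ((t z)⁻¹ * b * t z)) * (t z)⁻¹ := by group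
      _ = t z * (((t z)⁻¹ * b * t z) * ((t z)⁻¹ * a * t z)) * (t z)⁻¹ := by rw [this]
      _ = b * a := by group
  have hPK : ∀ c ∈ P, c ∈ K x := by
    intro c hc
    have hh : ((t x)⁻¹) • x = x := inv_smul_eq_iff.2 (ht x).symm
    rw [hmemK]
    simpa [mul_assoc] using hPn _ hh c hc
  have hmove : ∀ {a b : X}, a ≠ b → ∃ m ∈ K a, m • b ≠ b := by
    intro a b hab
    obtain ⟨g, rfl, -⟩ := two hyx.symm hab
    by_contra hcon
    push Not at hcon
    have hc := hconj g x c0 (hPK c0 hc0)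
    refine hc01 (conj_eq_one_iff.1 (eq_of_smul_eq_smul (M := G) (m₁ := g * c0 * g⁻¹) (m₂ := 1)
      fun z : X => ?_))
    rw [one_smul]
    by_cases hz : g • x = z
    · subst hz; exact hle _ _ hc
    obtain ⟨h, hha, hhb⟩ := two hab hz
    have h1 := hconj h⁻¹ _ _ hc
    rw [inv_smul_eq_iff.2 hha.symm] at h1
    have h2 := hcon _ h1
    rw [inv_inv, mul_smul, mul_smul, hhb, inv_smul_eq_iff, hhb] at h2
    exact h2
  let D : Fam G X p :=
    { K := K
      prime := hp
      isP := fun z => IsPGroup.map (fun c => by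
        obtain ⟨k, hk⟩ := c.2.2
        exact ⟨k, Subtype.ext (by simpa using hk)⟩) _
      le_stab := hle
      conj := hconj
      inter := fun hxy c hc hc' => inter_eq_one K hle hconj hKcomm two hmove hxy hc hc'
      comm := hKcomm
      two := two
      nsr := ⟨x, y, c0, hyx.symm, hPK c0 hc0, hc01, hc0y⟩ }
  exact D.exists_psl

end CfsgLib.ONanTI
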